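import Mathlib
import Cfsg.Agent.H464.ExtQU
import Cfsg.Agent.H53.HC.Flag_m3
import Cfsg.Agent.H732.ExtPSL.Twist_m3
import Cfsg.Agent.H328.Gow.RowPsu
import Cfsg.Agent.H113.PSU.Main
import Cfsg.Agent.ClassicalGeometry.PSUAutMain
import Cfsg.Agent.CpAut.Fix
import Cfsg.Agent.S0283
import Cfsg.Agent.H67.ExtBase
import Cfsg.Agent.Prune
set_option linter.all false
prune_inst 0x7ffdeffefbeccddfffff7e3ffedadffc1a815fffefdff943ffece9ff0fdf139a09c52b8d0df010ff0ff7627410b87843fbfffeffe26ffc7ffffdfff45ffbee5fe5f7bd0951d68c240fbc2fff83f0778e7f3fffffffffffffffffffffffffffbeffbfffffffff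
open scoped Cfsg.Agent.FastGrp

-- part: H855/Ext/Num
section
/-!
# S4832, EXT-3H: the arithmetic of the Hermitian parameters (helper855)

`q = r ^ f`, `Q = q ^ 2`, `M = (Q ^ k - 1) / (Q - 1)`.
-/

set_option autoImplicit false

namespace Cfsg.Agent.H855.Ext

/-- reduction of the exponents -/
theorem red_sub {M a r n t : ℕ} (hM : (M : ℤ) ∣ (r : ℤ) ^ n - 1) (htn : t ≤ n) (h : (M : ℤ) ∣ a * ((r : ℤ) ^ t - 1)) :
    (M : ℤ) ∣ a * ((r : ℤ) ^ (n - t) - 1) := by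
  have e : (r : ℤ) ^ n = r ^ (n - t) * r ^ t := by rw [← pow_add]; congr 1; omega
  have h1 : (a : ℤ) * ((r : ℤ) ^ (n - t) - 1) = a * (r ^ n - 1) - r ^ (n - t) * (a * (r ^ t - 1)) := by
    rw [e]; ring
  rw [h1]
  exact dvd_sub (hM.mul_left _) (h.mul_left _)

theorem red_add {M a r n t : ℕ} (hM : (M : ℤ) ∣ (r : ℤ) ^ n - 1) (htn : t ≤ n) (h : (M : ℤ) ∣ a * ((r : ℤ) ^ t + 1)) :
    (M : ℤ) ∣ a * ((r : ℤ) ^ (n - t) + 1) := by
  have e : (r : ℤ) ^ n = r ^ (n - t) * r ^ t := by rw [← pow_add]; congr 1; omega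
  have h1 : (a : ℤ) * ((r : ℤ) ^ (n - t) + 1) = r ^ (n - t) * (a * (r ^ t + 1)) - a * (r ^ n - 1) := by
    rw [e]; ring
  rw [h1]
  exact dvd_sub (h.mul_left _) (hM.mul_left _)

/-- cancel a power of `r` -/
theorem cancel_pow {M r n : ℕ} (hn : n ≠ 0) (hM : (M : ℤ) ∣ (r : ℤ) ^ n - 1) {t : ℕ} {x : ℤ} (h : (M : ℤ) ∣ r ^ t * x) :
    (M : ℤ) ∣ x := by
  have h1 : IsCoprime (M : ℤ) ((r : ℤ) ^ t) := by
    apply IsCoprime.pow_right
    obtain ⟨c, hc⟩ := hM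
    refine ⟨-c, (r : ℤ) ^ (n - 1), ?_⟩
    have e : (r : ℤ) ^ (n - 1) * r = r ^ n := by rw [← pow_succ]; congr 1; omega
    rw [e]
    linear_combination hc
  exact h1.dvd_of_dvd_mul_left h

section

variable {r f k q M : ℕ} (hq : q = r ^ f) (hr : 2 ≤ r) (hf : 0 < f)

include hq in
theorem dvd_pow (hM : (M : ℤ) * ((q : ℤ) ^ 2 - 1) = (q : ℤ) ^ (2 * k) - 1) : (M : ℤ) ∣ (r : ℤ) ^ (2 * f * k) - 1 := by
  refine ⟨(q : ℤ) ^ 2 - 1, ?_⟩
  rw [hM, hq]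
  push_cast
  rw [← pow_mul]
  congr 2
  ring

/-- the cubic case -/
theorem not_three (h3 : 3 ≤ q) (hM : (M : ℤ) = (q : ℤ) ^ 4 + (q : ℤ) ^ 2 + 1) :
    ¬ (M : ℤ) ∣ ((q : ℤ) + 1) * ((q : ℤ) ^ 3 - 1) ∧ ¬ (M : ℤ) ∣ ((q : ℤ) + 1) * ((q : ℤ) ^ 3 + 1) := by
  have h3' : (3 : ℤ) ≤ q := by exact_mod_cast h3
  constructor
  · intro h
    have h1 : (M : ℤ) ∣ (q : ℤ) ^ 3 - q ^ 2 - q - 2 := by
      have e : (q : ℤ) ^ 3 - q ^ 2 - q - 2 = ((q : ℤ) + 1) * ((q : ℤ) ^ 3 - 1) - M := by rw [hM]; ring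
      rw [e]
      exact dvd_sub h dvd_rfl
    have h2 : (0 : ℤ) < (q : ℤ) ^ 3 - q ^ 2 - q - 2 := by nlinarith only [h3, sq_nonneg ((q : ℤ) - 3)]
    have h4 := Int.le_of_dvd h2 h1
    rw [hM] at h4
    nlinarith only [h2, h4]
  · intro h
    have h1 : (M : ℤ) ∣ (q : ℤ) ^ 3 - q ^ 2 + q := by
      have e : (q : ℤ) ^ 3 - q ^ 2 + q = ((q : ℤ) + 1) * ((q : ℤ) ^ 3 + 1) - M := by rw [hM]; ring
      rw [e]
      exact dvd_sub h dvd_rfl
    have h2 : (0 : ℤ) < (q : ℤ) ^ 3 - q ^ 2 + q := by nlinarith only [h3, sq_nonneg ((q : ℤ) - 3)]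
    have h4 := Int.le_of_dvd h2 h1
    rw [hM] at h4
    nlinarith only [h2, h4]

include hq hr hf in
/-- the bound, `t ≤ f k`, except for `k = 3`, `t = 3 f` -/
theorem bound (h3 : 3 ≤ q) (hk : 3 ≤ k) (hM : (M : ℤ) * ((q : ℤ) ^ 2 - 1) = (q : ℤ) ^ (2 * k) - 1) {t : ℕ}
    (ht : t ≤ f * k) (hne : ¬ (k = 3 ∧ t = f * k)) : ((q : ℤ) + 1) * ((r : ℤ) ^ t + 1) < M := by
  have h3' : (3 : ℤ) ≤ q := by exact_mod_cast h3
  have hr' : (2 : ℤ) ≤ r := by exact_mod_cast hr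
  have hpos : (0 : ℤ) < (q : ℤ) ^ 2 - 1 := by nlinarith only [h3]
  rcases Nat.lt_or_ge k 4 with hk4 | hk4
  · have hk3 : k = 3 := by omega
    subst hk3
    have hM3 : (M : ℤ) = (q : ℤ) ^ 4 + (q : ℤ) ^ 2 + 1 := by
      have h1 : ((q : ℤ) ^ 4 + (q : ℤ) ^ 2 + 1) * ((q : ℤ) ^ 2 - 1) = (q : ℤ) ^ (2 * 3) - 1 := by ring
      rw [← h1] at hM
      exact mul_right_cancel₀ hpos.ne' hM
    have ht3 : t + 1 ≤ f * 3 := by
      rcases Nat.lt_or_ge t (f * 3) with h | h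
      · omega
      · exact absurd ⟨rfl, le_antisymm ht h⟩ hne
    have h1 : (2 : ℤ) * r ^ t ≤ (q : ℤ) ^ 3 := by
      have h4 : (q : ℤ) ^ 3 = (r : ℤ) ^ (f * 3) := by rw [hq]; push_cast; rw [← pow_mul]
      rw [h4]
      calc (2 : ℤ) * r ^ t ≤ r * r ^ t := mul_le_mul_of_nonneg_right hr' (by positivity)
        _ = (r : ℤ) ^ (t + 1) := by rw [pow_succ]; ring
        _ ≤ (r : ℤ) ^ (f * 3) := pow_le_pow_right₀ (by linarith only [hr]) ht3
    rw [hM3]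
    nlinarith only [hpos, h1, pow_pos (show (0 : ℤ) < q by linarith) 3]
  · have h1 : (r : ℤ) ^ t ≤ (q : ℤ) ^ k := by
      have h4 : (q : ℤ) ^ k = (r : ℤ) ^ (f * k) := by rw [hq]; push_cast; rw [← pow_mul]
      rw [h4]
      exact pow_le_pow_right₀ (by linarith only [hr]) ht
    -- `M > q ^ (2 k - 2)`
    have h2 : (q : ℤ) ^ (2 * k - 2) < M := by
      by_contra hcon
      push Not at hcon
      have h5 : (M : ℤ) * ((q : ℤ) ^ 2 - 1) ≤ (q : ℤ) ^ (2 * k - 2) * ((q : ℤ) ^ 2 - 1) :=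
        mul_le_mul_of_nonneg_right hcon hpos.le
      rw [hM] at h5
      have h6 : (q : ℤ) ^ (2 * k - 2) * (q : ℤ) ^ 2 = (q : ℤ) ^ (2 * k) := by rw [← pow_add]; congr 1; omega
      have h7 : (1 : ℤ) < (q : ℤ) ^ (2 * k - 2) := one_lt_pow₀ (by linarith only [h3]) (by omega)
      linarith only [h5, h6, h7]
    have h4 : (q : ℤ) ^ 2 * (q : ℤ) ^ k ≤ (q : ℤ) ^ (2 * k - 2) := by
      rw [← pow_add]
      exact pow_le_pow_right₀ (by linarith only [h3]) (by omega)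
    have h5 : (9 : ℤ) ≤ (q : ℤ) ^ k := by
      calc (9 : ℤ) = 3 ^ 2 := by norm_num
        _ ≤ (q : ℤ) ^ 2 := pow_le_pow_left₀ (by norm_num) h3' 2
        _ ≤ (q : ℤ) ^ k := pow_le_pow_right₀ (by linarith only [h3]) (by omega)
    have h6 : ((q : ℤ) + 1) * ((r : ℤ) ^ t + 1) ≤ ((q : ℤ) + 1) * ((q : ℤ) ^ k + 1) :=
      mul_le_mul_of_nonneg_left (by linarith only [h1]) (by linarith only [h3])
    have h8 : (0 : ℤ) ≤ (q : ℤ) ^ 2 - q - 1 := by nlinarith only [h3]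
    have h7 : ((q : ℤ) + 1) * ((q : ℤ) ^ k + 1) ≤ (q : ℤ) ^ 2 * (q : ℤ) ^ k := by
      nlinarith only [h3, mul_nonneg (show (0 : ℤ) ≤ (q : ℤ) ^ k - 9 by linarith) h8]
    linarith only [h2, h4, h6, h7]

include hq hr hf in
/-- **`k ≥ 3`** -/
theorem numA (h3 : 3 ≤ q) (hk : 3 ≤ k) (hM : (M : ℤ) * ((q : ℤ) ^ 2 - 1) = (q : ℤ) ^ (2 * k) - 1) {t : ℕ}
    (ht0 : 0 < t) (ht : t < 2 * f * k) : ¬ (M : ℤ) ∣ ((q + 1 : ℕ) : ℤ) * ((r : ℤ) ^ t - 1) := by
  have key : ∀ t : ℕ, 0 < t → t ≤ f * k → ¬ (M : ℤ) ∣ ((q + 1 : ℕ) : ℤ) * ((r : ℤ) ^ t - 1) := by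
    intro t ht0 ht h
    have hr' : (2 : ℤ) ≤ r := by exact_mod_cast hr
    have h1 : (1 : ℤ) < (r : ℤ) ^ t := one_lt_pow₀ (by linarith only [hr]) ht0.ne'
    by_cases hne : k = 3 ∧ t = f * k
    · obtain ⟨rfl, rfl⟩ := hne
      have h3' : (3 : ℤ) ≤ q := by exact_mod_cast h3
      have hpos : (0 : ℤ) < (q : ℤ) ^ 2 - 1 := by nlinarith only [h3]
      have hM3 : (M : ℤ) = (q : ℤ) ^ 4 + (q : ℤ) ^ 2 + 1 := by
        have h1 : ((q : ℤ) ^ 4 + (q : ℤ) ^ 2 + 1) * ((q : ℤ) ^ 2 - 1) = (q : ℤ) ^ (2 * 3) - 1 := by ring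
        rw [← h1] at hM
        exact mul_right_cancel₀ hpos.ne' hM
      refine (not_three h3 hM3).1 ?_
      have h4 : (q : ℤ) ^ 3 = (r : ℤ) ^ (f * 3) := by rw [hq]; push_cast; rw [← pow_mul]
      rw [h4]
      push_cast at h
      exact h
    · have h2 := bound hq hr hf h3 hk hM ht hne
      push_cast at h
      have h4 := Int.le_of_dvd (by
        have : (0 : ℤ) < (q : ℤ) + 1 := by positivity
        exact mul_pos this (by linarith only [h1])) h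
      have : (0 : ℤ) < (q : ℤ) + 1 := by positivity
      linarith only [h2, h4]
  intro h
  rcases Nat.lt_or_ge (f * k) t with h1 | h1
  · refine key (2 * f * k - t) (by omega) ?_ (red_sub (dvd_pow hq hM) ht.le h)
    have : 2 * f * k = f * k + f * k := by ring
    omega
  · exact key t ht0 h1 h

include hq hr hf in
theorem numB (h3 : 3 ≤ q) (hk : 3 ≤ k) (hM : (M : ℤ) * ((q : ℤ) ^ 2 - 1) = (q : ℤ) ^ (2 * k) - 1) {t : ℕ}
    (ht : t ≤ 2 * f * k) : ¬ (M : ℤ) ∣ ((q + 1 : ℕ) : ℤ) * ((r : ℤ) ^ t + 1) := by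
  have key : ∀ t : ℕ, t ≤ f * k → ¬ (M : ℤ) ∣ ((q + 1 : ℕ) : ℤ) * ((r : ℤ) ^ t + 1) := by
    intro t ht h
    have hr' : (2 : ℤ) ≤ r := by exact_mod_cast hr
    by_cases hne : k = 3 ∧ t = f * k
    · obtain ⟨rfl, rfl⟩ := hne
      have h3' : (3 : ℤ) ≤ q := by exact_mod_cast h3
      have hpos : (0 : ℤ) < (q : ℤ) ^ 2 - 1 := by nlinarith only [h3]
      have hM3 : (M : ℤ) = (q : ℤ) ^ 4 + (q : ℤ) ^ 2 + 1 := by
        have h1 : ((q : ℤ) ^ 4 + (q : ℤ) ^ 2 + 1) * ((q : ℤ) ^ 2 - 1) = (q : ℤ) ^ (2 * 3) - 1 := by ring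
        rw [← h1] at hM
        exact mul_right_cancel₀ hpos.ne' hM
      refine (not_three h3 hM3).2 ?_
      have h4 : (q : ℤ) ^ 3 = (r : ℤ) ^ (f * 3) := by rw [hq]; push_cast; rw [← pow_mul]
      rw [h4]
      push_cast at h
      exact h
    · have h2 := bound hq hr hf h3 hk hM ht hne
      push_cast at h
      have h4 := Int.le_of_dvd (by positivity) h
      linarith only [h2, h4]
  intro h
  rcases Nat.lt_or_ge (f * k) t with h1 | h1
  · refine key (2 * f * k - t) ?_ (red_add (dvd_pow hq hM) ht h)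
    have : 2 * f * k = f * k + f * k := by ring
    omega
  · exact key t h1 h

include hq in
theorem Q_pow (i : ℕ) : ((q ^ 2 : ℕ) : ℤ) ^ i = (r : ℤ) ^ (2 * f * i) := by
  rw [hq]; push_cast; rw [← pow_mul, ← pow_mul]; congr 1; ring

include hq hr hf in
/-- the field automorphisms, and `DIrr` for `j = 0`, `0 < i` -/
theorem gen (h3 : 3 ≤ q) (hk : 3 ≤ k) (hM : (M : ℤ) * ((q : ℤ) ^ 2 - 1) = (q : ℤ) ^ (2 * k) - 1) {i j : ℕ} (hi : i < k)
    (hj : j < 2 * f) (hij : 0 < i ∨ 0 < j) :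
    ¬ (M : ℤ) ∣ ((q + 1 : ℕ) : ℤ) * (((q ^ 2 : ℕ) : ℤ) ^ i) - ((q + 1 : ℕ) : ℤ) * (r : ℤ) ^ j := by
  intro h
  have hd := dvd_pow hq hM
  have hn : 2 * f * k ≠ 0 := by positivity
  rw [Q_pow hq, ← mul_sub] at h
  rcases Nat.lt_or_ge (2 * f * i) j with h1 | h1
  · -- `i = 0`
    have hi0 : i = 0 := by
      by_contra hi0
      have : 2 * f * 1 ≤ 2 * f * i := Nat.mul_le_mul_left _ (by omega)
      omega
    subst hi0
    rw [mul_zero, pow_zero] at h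
    refine numA hq hr hf h3 hk hM (t := j) (by omega) ?_ ?_
    · have : 2 * f * 1 ≤ 2 * f * k := Nat.mul_le_mul_left _ (by omega)
      omega
    · have e : ((q + 1 : ℕ) : ℤ) * ((r : ℤ) ^ j - 1) = -(((q + 1 : ℕ) : ℤ) * (1 - (r : ℤ) ^ j)) := by ring
      rw [e]
      exact (dvd_neg).2 h
  · have hne : 2 * f * i ≠ j := by
      intro he
      rcases Nat.eq_zero_or_pos i with hi0 | hi0
      · subst hi0; omega
      · have : 2 * f * 1 ≤ 2 * f * i := Nat.mul_le_mul_left _ hi0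
        omega
    refine numA hq hr hf h3 hk hM (t := 2 * f * i - j) (by omega) ?_ ?_
    · have : 2 * f * i < 2 * f * k := Nat.mul_lt_mul_of_pos_left hi (by omega)
      omega
    · refine cancel_pow hn hd (t := j) ?_
      have e : (r : ℤ) ^ j * (((q + 1 : ℕ) : ℤ) * ((r : ℤ) ^ (2 * f * i - j) - 1)) =
          ((q + 1 : ℕ) : ℤ) * ((r : ℤ) ^ (2 * f * i) - (r : ℤ) ^ j) := by
        have e1 : (r : ℤ) ^ (2 * f * i) = r ^ j * r ^ (2 * f * i - j) := by rw [← pow_add]; congr 1; omega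
        rw [e1]; ring
      rw [e]
      exact h

include hq hr hf in
theorem opp (h3 : 3 ≤ q) (hk : 3 ≤ k) (hM : (M : ℤ) * ((q : ℤ) ^ 2 - 1) = (q : ℤ) ^ (2 * k) - 1) {i j : ℕ} (hi : i < k)
    (hj : j < 2 * f) :
    ¬ (M : ℤ) ∣ ((q + 1 : ℕ) : ℤ) * (((q ^ 2 : ℕ) : ℤ) ^ i) + ((q + 1 : ℕ) : ℤ) * (q * (r : ℤ) ^ j) := by
  intro h
  have hd := dvd_pow hq hM
  have hn : 2 * f * k ≠ 0 := by positivity
  have hk3 : 2 * f * 3 ≤ 2 * f * k := Nat.mul_le_mul_left _ hk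
  have hqz : (q : ℤ) * (r : ℤ) ^ j = (r : ℤ) ^ (f + j) := by rw [pow_add]; rw [hq]; push_cast; rfl
  rw [Q_pow hq, hqz, ← mul_add] at h
  rcases Nat.lt_or_ge (2 * f * i) (f + j) with h1 | h1
  · refine numB hq hr hf h3 hk hM (t := f + j - 2 * f * i) (by omega) ?_
    refine cancel_pow hn hd (t := 2 * f * i) ?_
    have e : (r : ℤ) ^ (2 * f * i) * (((q + 1 : ℕ) : ℤ) * ((r : ℤ) ^ (f + j - 2 * f * i) + 1)) =
        ((q + 1 : ℕ) : ℤ) * ((r : ℤ) ^ (2 * f * i) + (r : ℤ) ^ (f + j)) := by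
      have e1 : (r : ℤ) ^ (f + j) = r ^ (2 * f * i) * r ^ (f + j - 2 * f * i) := by rw [← pow_add]; congr 1; omega
      rw [e1]; ring
    rw [e]
    exact h
  · have h2 : 2 * f * i < 2 * f * k := Nat.mul_lt_mul_of_pos_left hi (by omega)
    refine numB hq hr hf h3 hk hM (t := 2 * f * i - (f + j)) (by omega) ?_
    refine cancel_pow hn hd (t := f + j) ?_
    have e : (r : ℤ) ^ (f + j) * (((q + 1 : ℕ) : ℤ) * ((r : ℤ) ^ (2 * f * i - (f + j)) + 1)) =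
        ((q + 1 : ℕ) : ℤ) * ((r : ℤ) ^ (2 * f * i) + (r : ℤ) ^ (f + j)) := by
      have e1 : (r : ℤ) ^ (2 * f * i) = r ^ (f + j) * r ^ (2 * f * i - (f + j)) := by rw [← pow_add]; congr 1; omega
      rw [e1]; ring
    rw [e]
    exact h

/-! ### `k = 2` -/

include hq hr hf in
theorem two_bound (h4 : 4 ≤ q) {t : ℕ} (ht : t < 2 * f) {x : ℤ} (hx : x = (r : ℤ) ^ t - 1 ∨ x = (r : ℤ) ^ t + 1)
    (hx0 : x ≠ 0) : ¬ ((q : ℤ) ^ 2 + 1) ∣ ((q + 1 : ℕ) : ℤ) * x := by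
  intro h
  have hr' : (2 : ℤ) ≤ r := by exact_mod_cast hr
  have h4' : (4 : ℤ) ≤ q := by exact_mod_cast h4
  have hrt : (1 : ℤ) ≤ (r : ℤ) ^ t := one_le_pow₀ (by linarith only [hr])
  have hxpos : 0 < x := by
    rcases hx with hx | hx
    · rcases lt_or_eq_of_le hrt with h1 | h1
      · rw [hx]; linarith only [h1]
      · rw [← h1] at hx; rw [hx] at hx0; exact absurd rfl hx0
    · rw [hx]; linarith only [hrt]
  have hxle : x ≤ (r : ℤ) ^ t + 1 := by rcases hx with hx | hx <;> rw [hx] <;> linarith only []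
  push_cast at h
  have h1 : ((q : ℤ) ^ 2 + 1) ∣ 2 * x := by
    have e : 2 * x = ((q : ℤ) ^ 2 + 1) * x - ((q : ℤ) - 1) * (((q : ℤ) + 1) * x) := by ring
    rw [e]
    exact dvd_sub (dvd_mul_right _ _) (h.mul_left _)
  have hq2 : (q : ℤ) ^ 2 = (r : ℤ) ^ (2 * f) := by rw [hq]; push_cast; rw [← pow_mul, mul_comm]
  have hle : (r : ℤ) * r ^ t ≤ (q : ℤ) ^ 2 := by
    rw [hq2, mul_comm, ← pow_succ]
    exact pow_le_pow_right₀ (by linarith only [hr]) (by omega)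
  rcases Nat.even_or_odd q with he | ho
  · have h2 : IsCoprime ((q : ℤ) ^ 2 + 1) 2 := by
      obtain ⟨c, hc⟩ := he
      refine ⟨1, -(2 * (c : ℤ) ^ 2), ?_⟩
      rw [hc]; push_cast; ring
    have h3 := h2.dvd_of_dvd_mul_left h1
    have h5 := Int.le_of_dvd hxpos h3
    nlinarith only [hr, h4, hxle, hle, h5]
  · have hr3 : (3 : ℤ) ≤ r := by
      have h5 : r ≠ 2 := by
        rintro rfl
        have h6 : Even q := by rw [hq]; exact (Nat.even_pow.2 ⟨even_two, hf.ne'⟩)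
        exact (Nat.not_even_iff_odd.2 ho) h6
      exact_mod_cast (show 3 ≤ r by omega)
    have h5 := Int.le_of_dvd (by linarith only [hxpos]) h1
    nlinarith only [h4, hrt, hxle, hle, hr3, h5]

include hq hr hf in
theorem gen_two (h4 : 4 ≤ q) {i j : ℕ} (hi : i < 2) (hj : j < 2 * f) (hj0 : 0 < j) :
    ¬ ((q : ℤ) ^ 2 + 1) ∣ ((q + 1 : ℕ) : ℤ) * (((q ^ 2 : ℕ) : ℤ) ^ i) - ((q + 1 : ℕ) : ℤ) * (r : ℤ) ^ j := by
  intro h
  have hr' : (2 : ℤ) ≤ r := by exact_mod_cast hr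
  have h1 : i = 0 ∨ i = 1 := by omega
  rcases h1 with rfl | rfl
  · refine two_bound hq hr hf h4 hj (Or.inl rfl) ?_ ?_
    · have : (1 : ℤ) < (r : ℤ) ^ j := one_lt_pow₀ (by linarith only [hr]) hj0.ne'
      linarith only [this]
    · have e : ((q + 1 : ℕ) : ℤ) * ((r : ℤ) ^ j - 1) =
        -(((q + 1 : ℕ) : ℤ) * (((q ^ 2 : ℕ) : ℤ) ^ 0) - ((q + 1 : ℕ) : ℤ) * (r : ℤ) ^ j) := by ring
      rw [e]
      exact (dvd_neg).2 h
  · -- `q² ≡ -1`
    refine two_bound hq hr hf h4 hj (Or.inr rfl) ?_ ?_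
    · have : (1 : ℤ) ≤ (r : ℤ) ^ j := one_le_pow₀ (by linarith only [hr])
      linarith only [this]
    · have e : ((q + 1 : ℕ) : ℤ) * ((r : ℤ) ^ j + 1) = ((q + 1 : ℕ) : ℤ) * ((q : ℤ) ^ 2 + 1) -
        (((q + 1 : ℕ) : ℤ) * (((q ^ 2 : ℕ) : ℤ) ^ 1) - ((q + 1 : ℕ) : ℤ) * (r : ℤ) ^ j) := by push_cast; ring
      rw [e]
      exact dvd_sub (dvd_mul_left _ _) h

theorem self_two (h4 : 4 ≤ q) :
    ¬ ((q : ℤ) ^ 2 + 1) ∣ ((q + 1 : ℕ) : ℤ) * (((q ^ 2 : ℕ) : ℤ) ^ 1) - ((q + 1 : ℕ) : ℤ) * (r : ℤ) ^ 0 := by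
  intro h
  have h4' : (4 : ℤ) ≤ q := by exact_mod_cast h4
  have h1 : ((q : ℤ) ^ 2 + 1) ∣ 2 * ((q : ℤ) + 1) := by
    have e : 2 * ((q : ℤ) + 1) = ((q : ℤ) + 1) * ((q : ℤ) ^ 2 + 1) -
      (((q + 1 : ℕ) : ℤ) * (((q ^ 2 : ℕ) : ℤ) ^ 1) - ((q + 1 : ℕ) : ℤ) * (r : ℤ) ^ 0) := by push_cast; ring
    rw [e]
    exact dvd_sub (dvd_mul_left _ _) h
  have h5 := Int.le_of_dvd (by linarith) h1
  nlinarith only [h4, h5]

include hq hr hf in
/-- `j ≠ f` -/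
theorem opp_two (h4 : 4 ≤ q) {i j : ℕ} (hi : i < 2) (hj : j < 2 * f) (hjf : j ≠ f) :
    ¬ ((q : ℤ) ^ 2 + 1) ∣ ((q + 1 : ℕ) : ℤ) * (((q ^ 2 : ℕ) : ℤ) ^ i) + ((q + 1 : ℕ) : ℤ) * (q * (r : ℤ) ^ j) := by
  intro h
  have hr' : (2 : ℤ) ≤ r := by exact_mod_cast hr
  have hqz : (q : ℤ) * (r : ℤ) ^ j = (r : ℤ) ^ (f + j) := by rw [pow_add]; rw [hq]; push_cast; rfl
  have hq2 : (q : ℤ) ^ 2 = (r : ℤ) ^ (2 * f) := by rw [hq]; push_cast; rw [← pow_mul, mul_comm]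
  rw [hqz] at h
  have h1 : i = 0 ∨ i = 1 := by omega
  have hneg : ∀ t : ℕ, t < 2 * f → 0 < t → ((q : ℤ) ^ 2 + 1) ∣ ((q + 1 : ℕ) : ℤ) * ((r : ℤ) ^ t - 1) → False :=
    fun t ht ht0 hd => two_bound hq hr hf h4 ht (Or.inl rfl) (by
      have : (1 : ℤ) < (r : ℤ) ^ t := one_lt_pow₀ (by linarith only [hr]) ht0.ne'
      linarith only [this]) hd
  have hplus : ∀ t : ℕ, t < 2 * f → ((q : ℤ) ^ 2 + 1) ∣ ((q + 1 : ℕ) : ℤ) * ((r : ℤ) ^ t + 1) → False :=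
    fun t ht hd => two_bound hq hr hf h4 ht (Or.inr rfl) (by
      have : (1 : ℤ) ≤ (r : ℤ) ^ t := one_le_pow₀ (by linarith only [hr])
      linarith only [this]) hd
  rcases Nat.lt_or_ge j f with h5 | h5
  · -- `f + j < 2 f`
    rcases h1 with rfl | rfl
    · refine hplus (f + j) (by omega) ?_
      have e : ((q + 1 : ℕ) : ℤ) * ((r : ℤ) ^ (f + j) + 1) =
        ((q + 1 : ℕ) : ℤ) * (((q ^ 2 : ℕ) : ℤ) ^ 0) + ((q + 1 : ℕ) : ℤ) * (r : ℤ) ^ (f + j) := by ring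
      rw [e]; exact h
    · refine hneg (f + j) (by omega) (by omega) ?_
      have e : ((q + 1 : ℕ) : ℤ) * ((r : ℤ) ^ (f + j) - 1) =
        ((q + 1 : ℕ) : ℤ) * (((q ^ 2 : ℕ) : ℤ) ^ 1) + ((q + 1 : ℕ) : ℤ) * (r : ℤ) ^ (f + j) -
          ((q + 1 : ℕ) : ℤ) * ((q : ℤ) ^ 2 + 1) := by push_cast; ring
      rw [e]; exact dvd_sub h (dvd_mul_left _ _)
  · -- `f + j = 2 f + s`, `0 < s < f`
    obtain ⟨s, hs⟩ : ∃ s, j = f + s := ⟨j - f, by omega⟩
    have e2 : (r : ℤ) ^ (f + j) = (q : ℤ) ^ 2 * (r : ℤ) ^ s := by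
      rw [hq2, ← pow_add]; congr 1; omega
    rw [e2] at h
    rcases h1 with rfl | rfl
    · refine hneg s (by omega) (by omega) ?_
      have e : ((q + 1 : ℕ) : ℤ) * ((r : ℤ) ^ s - 1) = ((q + 1 : ℕ) : ℤ) * (r : ℤ) ^ s * ((q : ℤ) ^ 2 + 1) -
        (((q + 1 : ℕ) : ℤ) * (((q ^ 2 : ℕ) : ℤ) ^ 0) + ((q + 1 : ℕ) : ℤ) * ((q : ℤ) ^ 2 * (r : ℤ) ^ s)) := by ring
      rw [e]; exact dvd_sub (dvd_mul_left _ _) h
    · refine hplus s (by omega) ?_
      have e : ((q + 1 : ℕ) : ℤ) * ((r : ℤ) ^ s + 1) =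
        (((q + 1 : ℕ) : ℤ) * (r : ℤ) ^ s + ((q + 1 : ℕ) : ℤ)) * ((q : ℤ) ^ 2 + 1) -
        (((q + 1 : ℕ) : ℤ) * (((q ^ 2 : ℕ) : ℤ) ^ 1) + ((q + 1 : ℕ) : ℤ) * ((q : ℤ) ^ 2 * (r : ℤ) ^ s)) := by
        push_cast; ring
      rw [e]; exact dvd_sub (dvd_mul_left _ _) h

/-- `j = f`, with the determinants in the subfield -/
theorem opp_two_f (h4 : 4 ≤ q) {i : ℕ} (hi : i < 2) :
    ¬ ((q : ℤ) - 1) * ((q : ℤ) ^ 2 + 1) ∣ ((q + 1 : ℕ) : ℤ) * (((q ^ 2 : ℕ) : ℤ) ^ i) + ((q + 1 : ℕ) : ℤ) * (q * (q : ℤ)) := by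
  intro h
  have h4' : (4 : ℤ) ≤ q := by exact_mod_cast h4
  have h1 : i = 0 ∨ i = 1 := by omega
  rcases h1 with rfl | rfl
  · have e : ((q + 1 : ℕ) : ℤ) * (((q ^ 2 : ℕ) : ℤ) ^ 0) + ((q + 1 : ℕ) : ℤ) * (q * (q : ℤ)) =
      ((q : ℤ) + 1) * ((q : ℤ) ^ 2 + 1) := by push_cast; ring
    rw [e] at h
    have h2 : ((q : ℤ) - 1) ∣ (q : ℤ) + 1 := Int.dvd_of_mul_dvd_mul_right (by positivity) h
    have h3 : ((q : ℤ) - 1) ∣ 2 := by
      have e : (2 : ℤ) = ((q : ℤ) + 1) - ((q : ℤ) - 1) := by ring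
      rw [e]; exact dvd_sub h2 dvd_rfl
    have := Int.le_of_dvd (by norm_num) h3
    linarith
  · have h2 : ((q : ℤ) ^ 2 + 1) ∣ ((q + 1 : ℕ) : ℤ) * (((q ^ 2 : ℕ) : ℤ) ^ 1) + ((q + 1 : ℕ) : ℤ) * (q * (q : ℤ)) :=
      (dvd_mul_left _ _).trans h
    have h3 : ((q : ℤ) ^ 2 + 1) ∣ 2 * ((q : ℤ) + 1) := by
      have e : 2 * ((q : ℤ) + 1) = 2 * ((q : ℤ) + 1) * ((q : ℤ) ^ 2 + 1) -
        (((q + 1 : ℕ) : ℤ) * (((q ^ 2 : ℕ) : ℤ) ^ 1) + ((q + 1 : ℕ) : ℤ) * (q * (q : ℤ))) := by push_cast; ring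
      rw [e]; exact dvd_sub (dvd_mul_left _ _) h2
    have h5 := Int.le_of_dvd (by linarith) h3
    nlinarith only [h4, h5]

end

end Cfsg.Agent.H855.Ext
end

-- part: H855/Ext/Herm
section
/-!
# S4832, EXT-3H: Hermitian parameters (helper855)
-/

set_option autoImplicit false
set_option linter.unusedSectionVars false

open scoped ComplexConjugate
open Cfsg

namespace Cfsg.Agent.H855.Ext

open Cfsg.Agent.H477.HC Cfsg.Agent.H53.HC Cfsg.Agent.Characters Module Cfsg.Agent.H139.Cusp Cfsg.Agent.H576.Ext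
open Cfsg.Agent.H53.HC.Gal

universe u

section base

variable {K : Type u} [Field K] [Finite K] {L : Type} [Field L] [Finite L] [Algebra K L] {k : ℕ}

theorem dorth (hL : Module.finrank K L = k) (D : Subgroup Kˣ) (θ θ' : L →*₀ ℂ)
    (h : ∀ i < k, ∃ x : Lˣ, Units.map (Algebra.norm K : L →* K) x ∈ D ∧ θ' x ≠ θ ((x : L) ^ Nat.card K ^ i)) :
    DOrth D (psi (n := k) (F := K) L θ) (psi L θ') :=
  H699.CusG.dorth_psi hL D θ θ' fun i hi hall => by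
    obtain ⟨x, hx, hne⟩ := h i hi
    exact hne (hall x ⟨_, hx, rfl⟩)

theorem dirr (hL : Module.finrank K L = k) (hk : 0 < k) (D : Subgroup Kˣ) (θ : L →*₀ ℂ)
    (hirr : IsIrrCharacter _ (psi (n := k) (F := K) L θ))
    (h : ∀ i < k, 0 < i → ∃ x : Lˣ, Units.map (Algebra.norm K : L →* K) x ∈ D ∧ θ x ≠ θ ((x : L) ^ Nat.card K ^ i)) :
    DIrr D (psi (n := k) (F := K) L θ) :=
  H699.CusG.dirr_psi hL hk D θ hirr fun i hi0 hi hall => by
    obtain ⟨x, hx, hne⟩ := h i hi hi0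
    exact hne (hall x ⟨_, hx, rfl⟩)

end base

section psi

variable {K : Type u} [Field K] [Finite K] {L : Type} [Field L] [Finite L] [Algebra K L] {k : ℕ}

theorem fmap_psi (hL : Module.finrank K L = k) {p : ℕ} [Fact p.Prime] [CharP K p] (τ : K →+* K) {j : ℕ}
    (hτ : ∀ x, τ x = x ^ p ^ j) (θ θ' : L →*₀ ℂ) (hθ : ∀ x, θ' x = θ (x ^ p ^ j)) :
    fmap τ (psi (n := k) (F := K) L θ) = psi L θ' := by
  have hbij : Function.Bijective τ := Finite.injective_iff_bijective.1 τ.injective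
  let τ' : K ≃+* K := RingEquiv.ofBijective τ hbij
  have hτ' : ∀ x, τ' x = x ^ p ^ j := hτ
  obtain ⟨σ, hσ, hστ⟩ := exists_ext (L := L) hτ'
  funext A
  have h1 := cuspMat_semilinear hL hστ (θ := θ') (θ' := θ) (fun x => by rw [hσ, hθ]) (A : Matrix (Fin k) (Fin k) K)
  exact h1

theorem dualc_psi (hL : Module.finrank K L = k) {p : ℕ} [Fact p.Prime] [CharP K p] (τ : K →+* K) {j : ℕ}
    (hτ : ∀ x, τ x = x ^ p ^ j) (θ θ' : L →*₀ ℂ) (hθ : ∀ x, θ' x = θ (x ^ p ^ j)) :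
    dualc τ (psi (n := k) (F := K) L θ) = psi L (conjTheta θ') := by
  funext A
  have h1 := congrFun (fmap_psi hL τ hτ θ θ' hθ) (invT k A)
  have h2 : dualc τ (psi (n := k) (F := K) L θ) A = fmap τ (psi (n := k) (F := K) L θ) (invT k A) := rfl
  rw [h2, h1, psi_invT θ' hL A]
  exact cusp_star L θ' _

theorem pow_ne {φ : L →*₀ ℂ} (hφ : Function.Injective φ) (x : Lˣ) {a b s : ℕ} (ha : a ≠ 0) (hb : b ≠ 0)
    (h : ¬ ((orderOf x : ℕ) : ℤ) ∣ (a : ℤ) * s - b) : powTheta φ b hb x ≠ powTheta φ a ha ((x : L) ^ s) := by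
  intro e
  apply h
  rw [powTheta_apply, powTheta_apply, ← map_pow, ← map_pow, ← pow_mul] at e
  have h1 : x ^ b = x ^ (s * a) := Units.ext (by push_cast; exact hφ e)
  have h2 := (pow_eq_pow_iff_modEq.1 h1)
  have h3 := (Nat.modEq_iff_dvd.1 h2)
  rw [mul_comm (a : ℤ)]
  exact_mod_cast h3

theorem conj_ne {φ : L →*₀ ℂ} (hφ : Function.Injective φ) (x : Lˣ) {a b s : ℕ} (ha : a ≠ 0) (hb : b ≠ 0)
    (h : ¬ ((orderOf x : ℕ) : ℤ) ∣ (a : ℤ) * s + b) :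
    conjTheta (powTheta φ b hb) x ≠ powTheta φ a ha ((x : L) ^ s) := by
  intro e
  apply h
  rw [conjTheta_apply, conj_theta_eq, powTheta_apply, powTheta_apply, ← map_pow, ← map_pow, ← pow_mul] at e
  have h0 := hφ e
  have h1 : x⁻¹ ^ b = x ^ (s * a) := Units.ext (by push_cast; exact h0)
  have h2 : x ^ (a * s + b) = 1 := by
    rw [pow_add, mul_comm a s, ← h1, inv_pow, inv_mul_cancel]
  exact_mod_cast orderOf_dvd_of_pow_eq_one h2

/-- an element of order `N` which is a `d`-th power -/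
theorem exists_elt (hL : Module.finrank K L = k) {N d : ℕ} (h : N * d = Nat.card K ^ k - 1) (hd : d ≠ 0) :
    ∃ x g : Lˣ, orderOf x = N ∧ x = g ^ d := by
  have hcardL : Nat.card Lˣ = Nat.card K ^ k - 1 := by
    rw [Nat.card_units, Module.natCard_eq_pow_finrank (K := K), hL]
  obtain ⟨g, hg⟩ := IsCyclic.exists_ofOrder_eq_natCard (α := Lˣ)
  refine ⟨g ^ d, g, ?_, rfl⟩
  rw [orderOf_pow_of_dvd hd (by rw [hg, hcardL, ← h]; exact dvd_mul_left _ _), hg, hcardL, ← h,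
    Nat.mul_div_cancel _ (Nat.pos_of_ne_zero hd)]

theorem exists_norm_one (hL : Module.finrank K L = k) (hk : 0 < k) (D : Subgroup Kˣ) {M : ℕ}
    (hM : M * (Nat.card K - 1) = Nat.card K ^ k - 1) :
    ∃ x : Lˣ, orderOf x = M ∧ Units.map (Algebra.norm K : L →* K) x ∈ D := by
  have h2 : 2 ≤ Nat.card K := Finite.one_lt_card
  have h3 : 1 < Nat.card K ^ k := Nat.one_lt_pow hk.ne' (by omega)
  obtain ⟨x, g, hx, rfl⟩ := exists_elt hL hM (by omega)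
  refine ⟨_, hx, ?_⟩
  rw [map_pow, ← Nat.card_units, pow_card_eq_one']
  exact one_mem D

end psi

section herm

variable {K : Type u} [Field K] [Finite K] {q : ℕ}

theorem exists_rf (hq : Nat.card K = q ^ 2) : ∃ r f : ℕ, r.Prime ∧ CharP K r ∧ q = r ^ f ∧ 0 < f := by
  obtain ⟨r, hr⟩ := CharP.exists K
  have hpr : r.Prime := (CharP.char_is_prime_or_zero K r).resolve_right (CharP.char_ne_zero_of_finite K r)
  have : Fact r.Prime := ⟨hpr⟩
  have : Fintype K := Fintype.ofFinite K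
  obtain ⟨n, -, hn⟩ := FiniteField.card K r
  rw [← Nat.card_eq_fintype_card, hq] at hn
  obtain ⟨f, -, hf⟩ := (Nat.dvd_prime_pow hpr).1 (show q ∣ r ^ (n : ℕ) by rw [← hn]; exact dvd_pow_self q two_ne_zero)
  refine ⟨r, f, hpr, hr, hf, Nat.pos_of_ne_zero ?_⟩
  rintro rfl
  rw [pow_zero] at hf
  rw [hf, one_pow] at hq
  have := Finite.one_lt_card (α := K)
  omega

/-- nontrivial automorphisms: `0 < j < 2 f` -/
theorem exists_j (hq : Nat.card K = q ^ 2) {r f : ℕ} [Fact r.Prime] [CharP K r] (hqr : q = r ^ f) (hf : 0 < f)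
    (τ : K ≃+* K) (hτ : ∃ x, τ x ≠ x) : ∃ j, 0 < j ∧ j < 2 * f ∧ ∀ x, τ x = x ^ r ^ j := by
  obtain ⟨j, hj⟩ := exists_frob_pow (p := r) τ
  have hper : ∀ (m : ℕ) (x : K), x ^ r ^ (2 * f * m) = x := by
    intro m
    induction m with
    | zero => intro x; simp
    | succ m ih =>
      intro x
      have h1 : r ^ (2 * f * (m + 1)) = r ^ (2 * f * m) * Nat.card K := by
        rw [hq, hqr, ← pow_mul, ← pow_add]; congr 1; ring
      rw [h1, pow_mul, ih]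
      have : Fintype K := Fintype.ofFinite K
      rw [Nat.card_eq_fintype_card]
      exact FiniteField.pow_card x
  have h1 : ∀ x, τ x = x ^ r ^ (j % (2 * f)) := by
    intro x
    rw [hj]
    conv_lhs => rw [← Nat.div_add_mod j (2 * f), pow_add, pow_mul, hper]
  refine ⟨j % (2 * f), ?_, Nat.mod_lt _ (by omega), h1⟩
  by_contra h0
  obtain ⟨x, hx⟩ := hτ
  apply hx
  rw [h1, show j % (2 * f) = 0 by omega, pow_zero, pow_one]

/-- **The construction** from the arithmetic. -/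
theorem core (hq : Nat.card K = q ^ 2) {r f : ℕ} (hr : r.Prime) [CharP K r] (hqr : q = r ^ f) (hf : 0 < f) {k : ℕ}
    (hk : 2 ≤ k) (σ : K →+* K) (hσ : ∀ x, σ x = x ^ q) (D : Subgroup Kˣ) {L : Type} [Field L] [Finite L] [Algebra K L]
    (hL : Module.finrank K L = k)
    (h1 : ∀ i < k, 0 < i → ∃ x : Lˣ, Units.map (Algebra.norm K : L →* K) x ∈ (⊥ : Subgroup Kˣ) ∧
      ¬ ((orderOf x : ℕ) : ℤ) ∣ ((q + 1 : ℕ) : ℤ) * (((q ^ 2 : ℕ) : ℤ) ^ i) - ((q + 1 : ℕ) : ℤ) * (r : ℤ) ^ 0)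
    (h2 : ∀ i < k, ∃ x : Lˣ, Units.map (Algebra.norm K : L →* K) x ∈ (⊥ : Subgroup Kˣ) ∧
      ¬ ((orderOf x : ℕ) : ℤ) ∣ ((q + 1 : ℕ) : ℤ) * (((q ^ 2 : ℕ) : ℤ) ^ i) + ((q + 1 : ℕ) : ℤ) * (q * (r : ℤ) ^ 0))
    (h3 : ∀ i < k, ∀ j, 0 < j → j < 2 * f → ∃ x : Lˣ, Units.map (Algebra.norm K : L →* K) x ∈ D ∧
      ¬ ((orderOf x : ℕ) : ℤ) ∣ ((q + 1 : ℕ) : ℤ) * (((q ^ 2 : ℕ) : ℤ) ^ i) - ((q + 1 : ℕ) : ℤ) * (r : ℤ) ^ j)
    (h4 : ∀ i < k, ∀ j, 0 < j → j < 2 * f → ∃ x : Lˣ, Units.map (Algebra.norm K : L →* K) x ∈ D ∧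
      ¬ ((orderOf x : ℕ) : ℤ) ∣ ((q + 1 : ℕ) : ℤ) * (((q ^ 2 : ℕ) : ℤ) ^ i) + ((q + 1 : ℕ) : ℤ) * (q * (r : ℤ) ^ j)) :
    ∃ c : GL (Fin k) K → ℂ, CusG K k σ c ∧ ∀ τ : K ≃+* K, (∃ x, τ x ≠ x) → GenAt K k σ D τ c := by
  have : Fact r.Prime := ⟨hr⟩
  obtain ⟨φ, hφ⟩ := exists_theta L
  have hq0 : q ≠ 0 := by rw [hqr]; exact pow_ne_zero _ hr.ne_zero
  have ha : q + 1 ≠ 0 := by omega
  have hcardK : ∀ i : ℕ, ((Nat.card K ^ i : ℕ) : ℤ) = ((q ^ 2 : ℕ) : ℤ) ^ i := by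
    intro i
    rw [hq]
    push_cast
    rfl
  have hpow : ∀ j : ℕ, (q + 1) * r ^ j ≠ 0 := fun j => Nat.mul_ne_zero ha (pow_ne_zero j hr.ne_zero)
  have hpow' : ∀ j : ℕ, (q + 1) * (q * r ^ j) ≠ 0 := fun j =>
    Nat.mul_ne_zero ha (Nat.mul_ne_zero hq0 (pow_ne_zero j hr.ne_zero))
  have hσr : ∀ y, σ y = y ^ r ^ f := by intro y; rw [hσ, hqr]
  have hfm : ∀ (x : Lˣ) (i j : ℕ), ¬ ((orderOf x : ℕ) : ℤ) ∣ ((q + 1 : ℕ) : ℤ) * (((q ^ 2 : ℕ) : ℤ) ^ i) -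
      ((q + 1 : ℕ) : ℤ) * (r : ℤ) ^ j → powTheta φ ((q + 1) * r ^ j) (hpow j) x ≠
        powTheta φ (q + 1) ha ((x : L) ^ Nat.card K ^ i) := by
    intro x i j h
    refine pow_ne hφ x ha (hpow j) ?_
    rw [hcardK]
    push_cast at h ⊢
    exact h
  have hself : ∀ (x : Lˣ) (i : ℕ), ¬ ((orderOf x : ℕ) : ℤ) ∣ ((q + 1 : ℕ) : ℤ) * (((q ^ 2 : ℕ) : ℤ) ^ i) -
      ((q + 1 : ℕ) : ℤ) * (r : ℤ) ^ 0 → powTheta φ (q + 1) ha x ≠
        powTheta φ (q + 1) ha ((x : L) ^ Nat.card K ^ i) := by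
    intro x i h
    refine pow_ne hφ x ha ha ?_
    rw [hcardK]
    push_cast at h ⊢
    rw [pow_zero, mul_one] at h
    exact h
  have hdual : ∀ (x : Lˣ) (i j : ℕ), ¬ ((orderOf x : ℕ) : ℤ) ∣ ((q + 1 : ℕ) : ℤ) * (((q ^ 2 : ℕ) : ℤ) ^ i) +
      ((q + 1 : ℕ) : ℤ) * (q * (r : ℤ) ^ j) → conjTheta (powTheta φ ((q + 1) * (q * r ^ j)) (hpow' j)) x ≠
        powTheta φ (q + 1) ha ((x : L) ^ Nat.card K ^ i) := by
    intro x i j h
    refine conj_ne hφ x ha (hpow' j) ?_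
    rw [hcardK]
    push_cast at h ⊢
    exact h
  have hdualc : ∀ (j : ℕ) (b : ℕ) (hb : b ≠ 0), b = (q + 1) * r ^ j →
      dualc σ (psi (n := k) (F := K) L (powTheta φ b hb)) =
        psi L (conjTheta (powTheta φ ((q + 1) * (q * r ^ j)) (hpow' j))) := by
    intro j b hb hbj
    refine dualc_psi hL σ hσr _ _ fun y => ?_
    rw [powTheta_apply, powTheta_apply, map_pow, ← pow_mul, hbj, ← hqr]
    congr 1
    ring
  have hR : Regular K k (powTheta φ (q + 1) ha) := by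
    intro i hi hik
    obtain ⟨x, -, hx⟩ := h1 i hik hi
    exact ⟨x, hself x i hx⟩
  refine ⟨psi L (powTheta φ (q + 1) ha), ⟨psi_isIrr _ hL hR, psi_isCusp L _, ?_, ?_, ?_, ?_, ?_⟩, ?_⟩
  · intro h
    have h0 : dualc σ (psi (n := k) (F := K) L (powTheta φ (q + 1) ha)) = psi L (powTheta φ (q + 1) ha) := h
    rw [hdualc 0 (q + 1) ha (by rw [pow_zero, mul_one])] at h0
    have h1 : ∀ g : ((Fin k → K) →ₗ[K] (Fin k → K))ˣ, cusp L (powTheta φ (q + 1) ha) (g : (Fin k → K) →ₗ[K] (Fin k → K)) =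
        cusp L (conjTheta (powTheta φ ((q + 1) * (q * r ^ 0)) (hpow' 0))) (g : (Fin k → K) →ₗ[K] (Fin k → K)) := by
      intro g
      let A : GL (Fin k) K := Matrix.GeneralLinearGroup.toLin.symm g
      have h5 : Matrix.GeneralLinearGroup.toLin A = g := MulEquiv.apply_symm_apply _ g
      have h2 := congrFun h0 A
      rw [← h5]
      exact h2.symm
    obtain ⟨i, hi, h3⟩ := (cusp_eq_iff (V := Fin k → K) (powTheta φ (q + 1) ha) _
      (by rw [Module.finrank_fin_fun, hL]) (by rw [hL]; exact hR)).1 h1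
    rw [hL] at hi
    obtain ⟨x, -, hx⟩ := h2 i hi
    exact hdual x i 0 hx (h3 x)
  · rw [psi_one L _ (by omega), degP_eq_Ico]
  · refine dirr hL (by omega) ⊥ _ (psi_isIrr _ hL hR) fun i hi hi0 => ?_
    obtain ⟨x, hxD, hx⟩ := h1 i hi hi0
    exact ⟨x, hxD, hself x i hx⟩
  · intro _
    rw [hdualc 0 (q + 1) ha (by rw [pow_zero, mul_one])]
    refine dorth hL ⊥ _ _ fun i hi => ?_
    obtain ⟨x, hxD, hx⟩ := h2 i hi
    exact ⟨x, hxD, hdual x i 0 hx⟩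
  · refine ⟨Units.map ((φ.comp (algebraMap K L).toMonoidWithZeroHom : K →*₀ ℂ) : K →* ℂ), fun z A => ?_⟩
    rw [psi_scalar _ hL]
    congr 1
    rw [powTheta_apply, ← map_pow, ← map_pow]
    show φ (algebraMap K L ((z : K) ^ (q + 1))) = φ (algebraMap K L ((z : K) * σ (z : K)))
    rw [hσ, pow_succ']
  · intro τ hτ
    obtain ⟨j, hj0, hj, hτj⟩ := exists_j hq hqr hf τ hτ
    have hf1 : fmap (τ : K →+* K) (psi (n := k) (F := K) L (powTheta φ (q + 1) ha)) =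
        psi L (powTheta φ ((q + 1) * r ^ j) (hpow j)) := by
      refine fmap_psi hL (τ : K →+* K) hτj _ _ fun y => ?_
      rw [powTheta_apply, powTheta_apply, map_pow, ← pow_mul]
      congr 1
      ring
    refine ⟨?_, ?_⟩
    · rw [hf1]
      refine dorth hL D _ _ fun i hi => ?_
      obtain ⟨x, hxD, hx⟩ := h3 i hi j hj0 hj
      exact ⟨x, hxD, hfm x i j hx⟩
    · rw [hf1, hdualc j _ (hpow j) rfl]
      refine dorth hL D _ _ fun i hi => ?_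
      obtain ⟨x, hxD, hx⟩ := h4 i hi j hj0 hj
      exact ⟨x, hxD, hdual x i j hx⟩

theorem exists_M (hq : Nat.card K = q ^ 2) (k : ℕ) : ∃ M, M * (Nat.card K - 1) = Nat.card K ^ k - 1 ∧
    (M : ℤ) * ((q : ℤ) ^ 2 - 1) = (q : ℤ) ^ (2 * k) - 1 := by
  have hQ1 : 1 ≤ Nat.card K := Nat.card_pos
  obtain ⟨M, hM⟩ : ∃ M, M * (Nat.card K - 1) = Nat.card K ^ k - 1 := by
    obtain ⟨c, hc⟩ := Nat.sub_dvd_pow_sub_pow (Nat.card K) 1 k
    rw [one_pow] at hc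
    exact ⟨c, by rw [mul_comm, ← hc]⟩
  refine ⟨M, hM, ?_⟩
  have h1 : 1 ≤ Nat.card K ^ k := Nat.one_le_pow _ _ hQ1
  have h2 : ((M * (Nat.card K - 1) : ℕ) : ℤ) = ((Nat.card K ^ k - 1 : ℕ) : ℤ) := by rw [hM]
  rw [Nat.cast_mul, Nat.cast_sub hQ1, Nat.cast_sub h1, hq] at h2
  push_cast at h2
  rw [← pow_mul] at h2
  exact h2

/-- **Hermitian case**, `k ≥ 3` -/
theorem exists_cusG_herm (hq : Nat.card K = q ^ 2) (h3 : 3 ≤ q) (k : ℕ)
    (hk : 3 ≤ k) (σ : K →+* K) (hσ : ∀ x, σ x = x ^ q) :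
    ∃ c : GL (Fin k) K → ℂ, CusG K k σ c ∧ ∀ τ : K ≃+* K, (∃ x, τ x ≠ x) → GenAt K k σ ⊥ τ c := by
  obtain ⟨r, f, hr, hch, hqr, hf⟩ := exists_rf hq
  obtain ⟨L, _, _, _, hL⟩ := exists_L K k (by omega)
  obtain ⟨M, hM, hMz⟩ := exists_M hq k
  obtain ⟨x, hx, hxD⟩ := exists_norm_one hL (by omega) (⊥ : Subgroup Kˣ) hM
  refine core hq hr hqr hf (by omega) σ hσ ⊥ hL (fun i hi hi0 => ⟨x, hxD, ?_⟩) (fun i hi => ⟨x, hxD, ?_⟩)
    (fun i hi j hj0 hj => ⟨x, hxD, ?_⟩) (fun i hi j hj0 hj => ⟨x, hxD, ?_⟩) <;> rw [hx]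
  · exact gen hqr hr.two_le hf h3 hk hMz hi (by omega) (Or.inl hi0)
  · exact opp hqr hr.two_le hf h3 hk hMz hi (by omega)
  · exact gen hqr hr.two_le hf h3 hk hMz hi hj (Or.inr hj0)
  · exact opp hqr hr.two_le hf h3 hk hMz hi hj

/-- **Hermitian case**, `k = 2`, `q ≥ 4` -/
theorem exists_cusG_herm_two (hq : Nat.card K = q ^ 2) (h4 : 4 ≤ q)
    (σ : K →+* K) (hσ : ∀ x, σ x = x ^ q) (D : Subgroup Kˣ) (hD : ∀ z : Kˣ, z ^ (q - 1) = 1 → z ∈ D) :
    ∃ c : GL (Fin 2) K → ℂ, CusG K 2 σ c ∧ ∀ τ : K ≃+* K, (∃ x, τ x ≠ x) → GenAt K 2 σ D τ c := by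
  obtain ⟨r, f, hr, hch, hqr, hf⟩ := exists_rf hq
  obtain ⟨L, _, _, _, hL⟩ := exists_L K 2 (by omega)
  have h1q : 1 ≤ q := by omega
  have h2q : 1 ≤ q ^ 2 := Nat.one_le_pow _ _ h1q
  have hM : (q ^ 2 + 1) * (Nat.card K - 1) = Nat.card K ^ 2 - 1 := by
    rw [hq]
    zify [h2q, Nat.one_le_pow 2 (q ^ 2) h2q]
    ring
  have hN : ((q - 1) * (q ^ 2 + 1)) * (q + 1) = Nat.card K ^ 2 - 1 := by
    rw [hq]
    zify [h1q, h2q, Nat.one_le_pow 2 (q ^ 2) h2q]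
    ring
  obtain ⟨x, hx, hxD⟩ := exists_norm_one hL (by omega) (⊥ : Subgroup Kˣ) hM
  obtain ⟨y, g, hy, rfl⟩ := exists_elt hL hN (by omega)
  have hyD : Units.map (Algebra.norm K : L →* K) (g ^ (q + 1)) ∈ D := by
    apply hD
    rw [map_pow, ← pow_mul]
    have h5 : (q + 1) * (q - 1) = Nat.card Kˣ := by
      rw [Nat.card_units, hq]
      zify [h1q, h2q]
      ring
    rw [h5, pow_card_eq_one']
  have hxD' : Units.map (Algebra.norm K : L →* K) x ∈ D := by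
    rw [Subgroup.mem_bot.1 hxD]
    exact one_mem D
  have hMz : ((q ^ 2 + 1 : ℕ) : ℤ) = (q : ℤ) ^ 2 + 1 := by push_cast; rfl
  have hNz : (((q - 1) * (q ^ 2 + 1) : ℕ) : ℤ) = ((q : ℤ) - 1) * ((q : ℤ) ^ 2 + 1) := by
    rw [Nat.cast_mul, Nat.cast_sub h1q, hMz]
    push_cast
    rfl
  refine core hq hr hqr hf le_rfl σ hσ D hL (fun i hi hi0 => ⟨x, hxD, ?_⟩) (fun i hi => ⟨x, hxD, ?_⟩)
    (fun i hi j hj0 hj => ⟨x, hxD', ?_⟩) (fun i hi j hj0 hj => ?_)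
  · rw [hx, hMz]
    have h5 : i = 1 := by omega
    subst h5
    exact self_two h4
  · rw [hx, hMz]
    exact opp_two hqr hr.two_le hf h4 hi (by omega) hf.ne
  · rw [hx, hMz]
    exact gen_two hqr hr.two_le hf h4 hi hj hj0
  · by_cases hjf : j = f
    · subst hjf
      refine ⟨_, hyD, ?_⟩
      rw [hy, hNz]
      have h5 : (r : ℤ) ^ j = (q : ℤ) := by rw [hqr]; push_cast; rfl
      rw [h5]
      exact opp_two_f h4 hi
    · refine ⟨x, hxD', ?_⟩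
      rw [hx, hMz]
      exact opp_two hqr hr.two_le hf h4 hi hj hjf

end herm

end Cfsg.Agent.H855.Ext
end

-- part: H328/Ext/PsuBase
section
/-!
# S4832, rows `PSU_n(q)`: the group `SU_n(q)` as a group of isometries and the automorphisms (helper328)
-/

set_option autoImplicit false
set_option linter.unusedSectionVars false

open scoped ComplexConjugate
open Cfsg

namespace Cfsg.Agent.H328.Ext

open Cfsg.Agent.H477.HC Cfsg.Agent.H53.HC Cfsg.Agent.Characters Module Cfsg.Agent.H576.Ext Cfsg.Agent.H328.Gow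
  Cfsg.Agent.H477.HC.CForm Cfsg.Agent.ClassicalGeometry.PSUAutBasic Cfsg.Agent.ClassicalGeometry.PSUAutCount
  Cfsg.Agent.LieClassical.HermBasic Cfsg.Agent.LieClassical.HermSiegel Cfsg.Agent.LieClassical.HermGen
  Cfsg.Agent.LieClassical.SUBasic

universe u

variable {K : Type u} [Field K] [Fintype K] {q n : ℕ}

section Iso

theorem suHom_val (hq : Nat.card K = q ^ 2) (n : ℕ) (A : SU n K q) (v : Fin n → K) :
    (((suHom hq n A : sg (CForm.hermF K hq n)) : (CForm.hermF K hq n).iso) : (Fin n → K) ≃ₗ[K] (Fin n → K)) v =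
      act A v := rfl

theorem suHom_injective (hq : Nat.card K = q ^ 2) (n : ℕ) : Function.Injective (suHom (K := K) hq n) := by
  intro A B h
  apply ext_act
  intro v
  rw [← suHom_val hq n A v, ← suHom_val hq n B v, h]

/-- `SU` is the special isometry group -/
noncomputable def eSg (hq : Nat.card K = q ^ 2) (n : ℕ) : SU n K q ≃* sg (CForm.hermF K hq n) :=
  MulEquiv.ofBijective (suHom hq n) ⟨suHom_injective hq n, suHom_surjective hq n⟩

theorem eSg_val (hq : Nat.card K = q ^ 2) (n : ℕ) (A : SU n K q) (v : Fin n → K) :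
    (((eSg hq n A : sg (CForm.hermF K hq n)) : (CForm.hermF K hq n).iso) : (Fin n → K) ≃ₗ[K] (Fin n → K)) v =
      act A v := rfl

theorem eSg_symm_val (hq : Nat.card K = q ^ 2) (n : ℕ) (g : sg (CForm.hermF K hq n)) (v : Fin n → K) :
    act ((eSg hq n).symm g) v = ((g : (CForm.hermF K hq n).iso) : (Fin n → K) ≃ₗ[K] (Fin n → K)) v := by
  rw [← eSg_val hq n, MulEquiv.apply_symm_apply]

/-- the projection -/
noncomputable def qh (hq : Nat.card K = q ^ 2) (n : ℕ) : sg (CForm.hermF K hq n) →* PSU n K q :=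
  (pr n K q).comp (eSg hq n).symm.toMonoidHom

theorem qh_eSg (hq : Nat.card K = q ^ 2) (n : ℕ) (A : SU n K q) : qh hq n (eSg hq n A) = pr n K q A := by
  change pr n K q ((eSg hq n).symm (eSg hq n A)) = _
  rw [MulEquiv.symm_apply_apply]

theorem qh_apply (hq : Nat.card K = q ^ 2) (n : ℕ) (g : sg (CForm.hermF K hq n)) :
    qh hq n g = pr n K q ((eSg hq n).symm g) := rfl

theorem qh_surjective (hq : Nat.card K = q ^ 2) (n : ℕ) : Function.Surjective (qh (K := K) hq n) := by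
  intro x
  obtain ⟨A, rfl⟩ := pr_surjective x
  exact ⟨eSg hq n A, qh_eSg hq n A⟩

theorem qh_ker (hF : Fintype.card K = q ^ 2) (hq : Nat.card K = q ^ 2) (hn : 3 ≤ n)
    (g : sg (CForm.hermF K hq n)) : qh hq n g = 1 ↔
      ∃ a : K, ∀ v, ((g : (CForm.hermF K hq n).iso) : (Fin n → K) ≃ₗ[K] (Fin n → K)) v = a • v := by
  rw [qh_apply, pr_eq_one_iff]
  constructor
  · intro h
    obtain ⟨c, -, -, hc⟩ := exists_scalar_of_mem_center hF hn h
    exact ⟨c, fun v => by rw [← eSg_symm_val, hc]⟩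
  · rintro ⟨a, ha⟩
    exact mem_center_of_act (c := a) fun v => by rw [eSg_symm_val, ha]

instance sg_normal {V : Type*} [AddCommGroup V] [Module K V] (F : CForm K V) : (sg F).Normal :=
  MonoidHom.normal_ker _

end Iso

section Simple

theorem simple_psu (hF : Fintype.card K = q ^ 2) (hn : 4 ≤ n) : IsSimpleGroup (PSU n K q) :=
  S0283.result hF n (by omega) (by omega)

theorem not_comm_psu (hF : Fintype.card K = q ^ 2) (hn : 4 ≤ n) : ¬ IsMulCommutative (PSU n K q) := by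
  have := simple_psu hF hn
  exact Cfsg.Agent.CpAut.Fix.not_comm_quot (H := SU n K q)

theorem center_psu (hF : Fintype.card K = q ^ 2) (hn : 4 ≤ n) : Subgroup.center (PSU n K q) = ⊥ := by
  have := simple_psu hF hn
  exact Cfsg.Agent.CpAut.Fix.center_eq_bot (not_comm_psu hF hn)

/-- the special isometry group is the commutator subgroup -/
theorem comm_le_sg {V : Type*} [AddCommGroup V] [Module K V] (F : CForm K V) : commutator F.iso ≤ sg F := by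
  have h : sg F = (LinearEquiv.det.comp F.iso.subtype).ker := rfl
  rw [h]
  exact Abelianization.commutator_subset_ker _

theorem sg_le_comm (hF : Fintype.card K = q ^ 2) (hq : Nat.card K = q ^ 2) (hn : 4 ≤ n) :
    sg (CForm.hermF K hq n) ≤ commutator (CForm.hermF K hq n).iso := by
  intro g hg
  have hperf : commutator (SU n K q) = ⊤ :=
    Cfsg.Agent.LieClassical.HermPerfect.commutator_SU_eq_top hF (by omega) (by omega)
  obtain ⟨A, hA⟩ := (eSg hq n).surjective ⟨g, hg⟩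
  have h1 : A ∈ commutator (SU n K q) := by rw [hperf]; trivial
  have h2 := Subgroup.mem_map_of_mem ((sg (CForm.hermF K hq n)).subtype.comp (eSg hq n).toMonoidHom) h1
  have h3 : ((sg (CForm.hermF K hq n)).subtype.comp (eSg hq n).toMonoidHom) A = g := congrArg Subtype.val hA
  rw [h3, commutator_def, Subgroup.map_commutator] at h2
  exact Subgroup.commutator_mono le_top le_top h2

end Simple

section Semi

/-- the special isometry group is invariant under semisimilarities -/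
theorem sg_semi (hF : Fintype.card K = q ^ 2) (hq : Nat.card K = q ^ 2) (hn : 4 ≤ n)
    (s : Semi (CForm.hermF K hq n)) (g : sg (CForm.hermF K hq n)) : ∃ g' : sg (CForm.hermF K hq n), ∀ v,
      ((g' : (CForm.hermF K hq n).iso) : (Fin n → K) ≃ₗ[K] (Fin n → K)) (s.γ v) =
        s.γ (((g : (CForm.hermF K hq n).iso) : (Fin n → K) ≃ₗ[K] (Fin n → K)) v) := by
  obtain ⟨g', hg'⟩ := semi_comm s ⟨g, sg_le_comm hF hq hn g.2⟩
  exact ⟨⟨g', comm_le_sg _ g'.2⟩, hg'⟩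

/-- the semisimilarity of `A ∘ ρ` -/
noncomputable def semi (hq : Nat.card K = q ^ 2) (A : GU n K q) (ρ : K ≃+* K) : Semi (CForm.hermF K hq n) where
  τ := ρ
  lam := 1
  hlam := one_ne_zero
  γ := { toFun := fun v => (gm A).mulVec fun i => ρ (v i)
         invFun := fun v i => ρ.symm ((gm A⁻¹).mulVec v i)
         left_inv := fun v => by
           funext i
           simp only
           rw [gm_inv_mulVec, RingEquiv.symm_apply_apply]
         right_inv := fun v => by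
           have h : (fun i => ρ (ρ.symm ((gm A⁻¹).mulVec v i))) = (gm A⁻¹).mulVec v := by
             funext i
             rw [RingEquiv.apply_symm_apply]
           simp only
           rw [h, gm_mulVec_inv]
         map_add' := fun v w => by
           have h : (fun i => ρ ((v + w) i)) = (fun i => ρ (v i)) + fun i => ρ (w i) := by
             funext i
             simp
           rw [h, Matrix.mulVec_add] }
  smul := fun a v => by
    change (gm A).mulVec (fun i => ρ ((a • v) i)) = ρ a • (gm A).mulVec fun i => ρ (v i)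
    have h : (fun i => ρ ((a • v) i)) = ρ a • fun i => ρ (v i) := by
      funext i
      simp
    rw [h, Matrix.mulVec_smul]
  hB := fun v w => by
    rw [one_mul]
    exact herm_semi A ρ v w
  hQ := fun v => by
    rw [one_mul]
    exact herm_semi A ρ v v

theorem semi_apply (hq : Nat.card K = q ^ 2) (A : GU n K q) (ρ : K ≃+* K) (v : Fin n → K) :
    (semi hq A ρ).γ v = (gm A).mulVec fun i => ρ (v i) := rfl

theorem toAut_qh (hq : Nat.card K = q ^ 2) (A : GU n K q) (ρ : K ≃+* K) (g g' : sg (CForm.hermF K hq n))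
    (h : ∀ v, ((g' : (CForm.hermF K hq n).iso) : (Fin n → K) ≃ₗ[K] (Fin n → K)) ((semi hq A ρ).γ v) =
      (semi hq A ρ).γ (((g : (CForm.hermF K hq n).iso) : (Fin n → K) ≃ₗ[K] (Fin n → K)) v)) :
    toAut A ρ (qh hq n g) = qh hq n g' := by
  rw [qh_apply, qh_apply, Cfsg.Agent.ClassicalGeometry.PSUAutMain.toAut_pr']
  congr 1
  apply ext_act
  intro x
  obtain ⟨y, rfl⟩ := (semi hq A ρ).γ.surjective x
  rw [eSg_symm_val, h, semi_apply, semi_apply, act_semiConj]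
  congr 1
  funext i
  rw [eSg_symm_val]

/-- **all automorphisms are semisimilarities** -/
theorem aut_semi (hF : Fintype.card K = q ^ 2) (hq : Nat.card K = q ^ 2) (hn : 4 ≤ n) (α : MulAut (PSU n K q)) :
    ∃ s : Semi (CForm.hermF K hq n), ∀ g g' : sg (CForm.hermF K hq n),
      (∀ v, ((g' : (CForm.hermF K hq n).iso) : (Fin n → K) ≃ₗ[K] (Fin n → K)) (s.γ v) =
        s.γ (((g : (CForm.hermF K hq n).iso) : (Fin n → K) ≃ₗ[K] (Fin n → K)) v)) → α (qh hq n g) = qh hq n g' := by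
  obtain ⟨A, ρ, rfl⟩ := Cfsg.Agent.ClassicalGeometry.PSUAutMain.exists_toAut hF (by omega) (by omega) α
  exact ⟨semi hq A ρ, fun g g' h => toAut_qh hq A ρ g g' h⟩

end Semi

/-- the data of the rank 3 rows -/
noncomputable def psuQ (hF : Fintype.card K = q ^ 2) (hq : Nat.card K = q ^ 2) (hn : 4 ≤ n) :
    SemiQ (CForm.hermF K hq n) (sg (CForm.hermF K hq n)) (PSU n K q) where
  q := qh hq n
  surj := qh_surjective hq n
  ker := qh_ker hF hq (by omega)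
  inv := sg_semi hF hq hn

theorem psuQ_ind (hF : Fintype.card K = q ^ 2) (hq : Nat.card K = q ^ 2) (hn : 4 ≤ n) (α : MulAut (PSU n K q)) :
    ∃ s : Semi (CForm.hermF K hq n), (psuQ hF hq hn).Ind s α := aut_semi hF hq hn α

end Cfsg.Agent.H328.Ext
end

-- part: H328/Ext/PsuLevi
section
/-!
# S4832, rows `PSU_n(q)`: root and Levi elements of `SU_n(q)` (helper328)
-/

set_option autoImplicit false
set_option linter.unusedSectionVars false

open scoped ComplexConjugate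
open Cfsg

namespace Cfsg.Agent.H328.Ext

open Cfsg.Agent.H477.HC Cfsg.Agent.H53.HC Cfsg.Agent.Characters Module Cfsg.Agent.H576.Ext Cfsg.Agent.H328.Gow
  Cfsg.Agent.H477.HC.CForm Cfsg.Agent.ClassicalGeometry.PSUAutBasic Cfsg.Agent.ClassicalGeometry.PSUAutCount
  Cfsg.Agent.LieClassical.HermBasic Cfsg.Agent.LieClassical.HermSiegel Cfsg.Agent.LieClassical.HermGen
  Cfsg.Agent.LieClassical.SUBasic

universe u

variable {K : Type u} [Field K] [Fintype K] {q n : ℕ}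

section Levi

theorem hasRoots_sg (hq : Nat.card K = q ^ 2) (hq3 : 3 ≤ q) : HasRoots (CForm.hermF K hq n) (sg (CForm.hermF K hq n)) := by
  refine hasRoots_of_comm _ (comm_le_sg _) ?_
  classical
  have h1 : 2 < Nat.card K := by rw [hq]; nlinarith
  by_contra hno
  push Not at hno
  have h2 : (Finset.univ : Finset K) ⊆ {0, 1} := by
    intro t _
    by_cases h : t = 0
    · simp only [h, _root_.Finset.mem_insert, _root_.Finset.mem_singleton, _root_.zero_ne_one, _root_.or_false]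
    · simp only [hno t h, _root_.Finset.mem_insert, _root_.one_ne_zero, _root_.Finset.mem_singleton, _root_.or_true]
  have h3 := Finset.card_le_card h2
  rw [Finset.card_univ, ← Nat.card_eq_fintype_card] at h3
  have h4 : ({0, 1} : Finset K).card ≤ 2 := Finset.card_le_two
  omega

/-- the elements of norm one... the fixed units of the involution -/
def Dq (K : Type u) [Field K] (q : ℕ) : Subgroup Kˣ := (powMonoidHom (q - 1) : Kˣ →* Kˣ).ker

theorem hasLevi_Dq (hq : Nat.card K = q ^ 2) (hq3 : 3 ≤ q) {k : ℕ} (hk : 0 < k) :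
    HasLevi (CForm.hermF K hq n) (sg (CForm.hermF K hq n)) (Dq K q) k := by
  set F := CForm.hermF K hq n with hF
  intro W hW W' hW' h0 g hgW hgW' h hdet hfix
  obtain ⟨b, b', hb⟩ := CForm.exists_dual_basis hW.2 hW'.2 h0
  set a : Kˣ := LinearEquiv.det (res (F.iso.subtype g) W h) with ha
  have hsσ : (a : K) * (F.σ a)⁻¹ = 1 := by
    have h1 : a ^ (q - 1) = 1 := hdet
    have h2 : F.σ a = (a : K) ^ q := powHom_apply hq _
    have h3 : (a : K) ^ q = a := by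
      have h4 : q = (q - 1) + 1 := by omega
      conv_lhs => rw [h4]
      rw [pow_succ, ← Units.val_pow_eq_pow_val, h1, Units.val_one, one_mul]
    rw [h2, h3, mul_inv_cancel₀ a.ne_zero]
  obtain ⟨d, hd, hd'⟩ := exists_dil F (hW.1.sing (b ⟨0, hk⟩).2) (hW'.1.sing (b' ⟨0, hk⟩).2) (by rw [hb, if_pos rfl]) a
  have hdsg : d ∈ sg F := by rw [mem_sg, hd', hsσ]
  set e : Fin n → K := (b ⟨0, hk⟩ : Fin n → K) with he
  set f : Fin n → K := (b' ⟨0, hk⟩ : Fin n → K) with hf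
  have heW : e ∈ W := (b ⟨0, hk⟩).2
  have hfW : f ∈ W' := (b' ⟨0, hk⟩).2
  have hdTW : d ∈ F.TT W := F.mem_TT_of hW.1 fun v hv => by
    rw [hd, hv e heW, mul_zero, zero_smul, add_zero, add_sub_cancel_left]
    exact W.smul_mem _ heW
  have hdTW' : d ∈ F.TT W' := F.mem_TT_of hW'.1 fun v hv => by
    rw [hd, hv f hfW, mul_zero, zero_smul, add_zero, add_sub_cancel_left]
    exact W'.smul_mem _ hfW
  have hdW := hdTW.1
  have hgd : g * d⁻¹ ∈ F.TT W := (F.TT W).mul_mem hgW ((F.TT W).inv_mem hdTW)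
  have hgd' : g * d⁻¹ ∈ F.TT W' := (F.TT W').mul_mem hgW' ((F.TT W').inv_mem hdTW')
  -- the determinant of `d` on `W`
  have hdetd : LinearEquiv.det (res (F.iso.subtype d) W hdW) = a := by
    apply Units.ext
    rw [LinearEquiv.coe_det]
    let φ : Dual K W := ((a : K) - 1) • (F.lf f).comp W.subtype
    have h1 : ((res (F.iso.subtype d) W hdW : W ≃ₗ[K] W) : W →ₗ[K] W) = LinearMap.transvection φ (b ⟨0, hk⟩) := by
      apply LinearMap.ext
      intro w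
      apply Subtype.ext
      rw [LinearMap.transvection.apply]
      change (d : (Fin n → K) ≃ₗ[K] (Fin n → K)) w = (w : Fin n → K) + (((a : K) - 1) • F.B w f) • e
      rw [hd, hW.1.2 w w.2 e heW, mul_zero, zero_smul, add_zero, smul_eq_mul]
    rw [h1, LinearMap.transvection.det]
    change 1 + ((a : K) - 1) • F.B e f = a
    rw [he, hf, hb, if_pos rfl, smul_eq_mul, mul_one]
    ring
  have hone : LinearEquiv.det (res (F.iso.subtype (g * d⁻¹)) W hgd.1) ∈ (⊥ : Subgroup Kˣ) := by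
    rw [Subgroup.mem_bot]
    have h1 : res (F.iso.subtype (g * d⁻¹)) W hgd.1 * res (F.iso.subtype d) W hdW = res (F.iso.subtype g) W h := by
      apply LinearEquiv.ext
      intro w
      apply Subtype.ext
      change ((g * d⁻¹ : F.iso) : (Fin n → K) ≃ₗ[K] (Fin n → K)) ((d : (Fin n → K) ≃ₗ[K] (Fin n → K)) w) =
        (g : (Fin n → K) ≃ₗ[K] (Fin n → K)) w
      change ((g * d⁻¹ * d : F.iso) : (Fin n → K) ≃ₗ[K] (Fin n → K)) w = _
      rw [inv_mul_cancel_right]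
    have h2 := congrArg LinearEquiv.det h1
    rw [map_mul, hdetd, ← ha] at h2
    exact mul_eq_right.1 h2
  have h3 := hasLevi_bot F (hasRoots_sg hq hq3) k W hW W' hW' h0 (g * d⁻¹) hgd hgd' hgd.1 hone (fun v hv hv' => by
    have h4 : (d : (Fin n → K) ≃ₗ[K] (Fin n → K)) v = v := by
      rw [hd, hv e heW, hv' f hfW]
      simp
    have h5 : ((d⁻¹ : F.iso) : (Fin n → K) ≃ₗ[K] (Fin n → K)) v = v := by
      conv_lhs => rw [← h4]
      change ((d⁻¹ * d : F.iso) : (Fin n → K) ≃ₗ[K] (Fin n → K)) v = v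
      rw [inv_mul_cancel]
      rfl
    change (g : (Fin n → K) ≃ₗ[K] (Fin n → K)) (((d⁻¹ : F.iso) : (Fin n → K) ≃ₗ[K] (Fin n → K)) v) = v
    rw [h5]
    exact hfix v hv hv')
  have h6 := (sg F).mul_mem h3 hdsg
  rwa [inv_mul_cancel_right] at h6

end Levi

end Cfsg.Agent.H328.Ext
end
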